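import Mathlib
import Cfsg.Agent.Lib.Held.X5
import Cfsg.Agent.Lib.MType.C7

/-! A criterion singling out the Held group among the groups with its involution centraliser. -/

set_option autoImplicit false
set_option maxRecDepth 100000
set_option Elab.async false

namespace CfsgLib.MonHe

open CfsgLib.Held CfsgLib.Held.Emb CfsgLib.LargeExtra CfsgLib.ExtraTwo Subgroup

variable {G : Type*} [Group G] [Finite G]

theorem he_u (E : Emb G) (h : E.Z cu) (hn : ∀ E' : Emb G, E'.z = E.z → ∀ r, ¬ E'.Act r (al [])) :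
    IsT G (al tbS) (twa (al tbS)) xS := by
  obtain ⟨r, h1, h2⟩ := exists_r h
  have h1 := h1.resolve_left (hn E rfl r)
  obtain ⟨s, h3, h4⟩ := exists_r ((tw_Z (n := cu) (by decide +kernel)).2
    (Z_of (n := cl) h1 (w := [12, 8, 12, 0, 8, 2, 12, 8, 12]) (by decide +kernel)))
  have h6 := tw_lc (E := E) (n := ca) (m := cd) (by decide +kernel)
  exact ⟨E, r, exists_SS h1 h2 (h3.resolve_left (hn _ E.tw_z s)).of_tw (h6 ▸ h4)⟩

theorem he_of (E : Emb G) (h : ¬ Cfsg.IsIsolatedInvolution E.z)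
    (hn : ∀ E' : Emb G, E'.z = E.z → ∀ r, ¬ E'.Act r (al [])) : IsT G (al tbS) (twa (al tbS)) xS := by
  by_contra hne
  refine h (ZStar.isIsolatedInvolution_of_sylow E.T E.orderOf_z z_mem_T fun g hg => ?_)
  by_contra e
  exact (Z_or hg e).elim (fun h => hne (he_u E h hn)) fun h => hne (he_u E.tw
    ((tw_Z (n := cu) (by decide +kernel)).2 h) fun E' e => hn E' (e.trans E.tw_z))

theorem iso_He {R : Subgroup G} {z : G} {ψ : centralizer ({z} : Set G) →* X.L} (h : X.Hyp R z ψ)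
    (hi : ¬ Cfsg.IsIsolatedInvolution z) (hx : ∀ g, g * z * g⁻¹ ∈ R → g * z * g⁻¹ ≠ z →
      ∃ t ∈ R, g⁻¹ * t * g ∈ R ∧ t ≠ 1 ∧ ¬ IsConj z t) : Nonempty (G ≃* Cfsg.Spor.He) := by
  have key : ∀ (g : G) (U : Subgroup G), U ≤ R → (∀ u ∈ U, g⁻¹ * u * g ∈ U) → Nat.card U = 16 →
      (∀ u ∈ U, u ≠ 1 → IsConj z u) → g * z * g⁻¹ ∈ U → g * z * g⁻¹ = z := fun g U h1 h2 h3 h4 h5 => by
    by_contra h6
    obtain ⟨t, t1, t2, t3, t4⟩ := hx g (h1 h5) h6
    have h7 := (h.pre.pair (by rw [h.card]; norm_num) (h1 h5) h6).card_E_sq_le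
    rw [h.card] at h7
    have h8 := eq_of_le_of_card_ge (le_inf h1 fun u hu => mem_map_conj.2 (h1 (h2 u hu))) (by rw [h3]; nlinarith)
    exact t4 (h4 t (h8.ge ⟨t1, mem_map_conj.2 t2⟩) t3)
  rcases h.iso_or hi with ⟨⟨e⟩⟩ | ⟨U, h1, h2, h3⟩
  · obtain ⟨E, e0⟩ := exists_emb s0 rfl h.pre.es.orderOf_eq e
    refine (he_of E (e0 ▸ hi :) fun E' e r hr => ?_).iso_He
    obtain rfl : E'.z = z := e.trans e0
    have hN : ∀ g : centralizer ({E'.z} : Set G), (g : G) ∈ normalizer (E'.P mU : Set G) := fun g =>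
      C_le_normalizer bits_U (by decide +kernel) (mem_cent.1 g.2)
    have h1 := MType.C7.two_eq_bot (((E'.P mU).subgroupOf _).map ψ)
      (Normal.map ⟨fun x hx g => (mem_normalizer_iff.1 (hN g) _).1 hx⟩ ψ h.surj)
      (((isPGroup_P (by decide)).comap_subtype).map ψ)
    have h2 := mem_normalizer_iff.1 (inv_mem (le_normalizer_U hr (CosetEnum.mem_gen_of_letter (E'.g r 1) (i := 6)
      (by decide))))
    obtain ⟨h3, h4⟩ := hr.2 zc V_zc (by decide +kernel)
    have h5 := key r (E'.P mU) (fun u hu => (h.ker ⟨u, mem_cent.2 (P_comm_z hu)⟩).1 (h1.le ⟨_, hu, rfl⟩))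
      (fun u hu => by simpa [g] using (h2 u).1 hu)
      ((card_P bits_U (by decide) (by decide +kernel) (by decide +kernel)).trans (by decide +kernel)) (by
        rintro _ ⟨n, n1, n2, rfl⟩ n3
        have := bits_U.all (f := fun n => Nat.beq n one || Nat.beq n zc || inP mT n && Nat.beq (cls n) (cls cu))
          (by decide +kernel) n2
        simp only [Bool.or_eq_true, Bool.and_eq_true, Held.beq_iff] at this
        rcases this with (rfl | rfl) | ⟨n4, n5⟩
        · exact absurd E'.ι_one n3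
        · exact IsConj.refl _
        · exact (Z_of hr (w := [12, 0]) (by decide +kernel)).of_cls (by decide +kernel) n4 n5)
      (h4.symm ▸ ι_mem (m := mU) (by decide +kernel) :)
    exact absurd (E'.inj h3 V_zc (h4.symm.trans h5)) (by decide +kernel)
  · obtain ⟨g, hg, hne⟩ : ∃ g : G, Commute z (g * z * g⁻¹) ∧ g * z * g⁻¹ ≠ z := by
      by_contra! hn
      exact hi ⟨h.pre.es.orderOf_eq, hn⟩
    have h4 := ((h3 _).1 ⟨isConj_iff.2 ⟨g, rfl⟩, hg.symm⟩).1
    have sq : ∀ u ∈ U, u⁻¹ = u := fun u hu => by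
      by_cases e : u = 1
      · simp [e]
      obtain ⟨k, rfl⟩ := isConj_iff.1 ((h3 u).2 ⟨hu, e⟩).1
      exact inv_eq_of_mul_eq_one_right (h.pre.es.map_conj k).mul_self
    refine absurd (key g U h1 (fun u hu => ?_) h2 (fun u hu e => ((h3 u).2 ⟨hu, e⟩).1) h4) hne
    by_cases e : u = 1
    · simp [e]
    refine ((h3 _).1 ⟨((h3 u).2 ⟨hu, e⟩).1.trans (isConj_iff.2 ⟨g⁻¹, by rw [inv_inv]⟩), ?_⟩).1
    have := sq _ (mul_mem hu h4)
    rw [mul_inv_rev, sq _ hu, sq _ h4] at this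
    calc _ = g⁻¹ * (u * (g * z * g⁻¹)) * g := by group
      _ = _ := by rw [← this]; group

end CfsgLib.MonHe
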