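import Mathlib
import Cfsg.Agent.Lib.MonHe.Crit
import Cfsg.Agent.Lib.MType.Co2

/-! In a group of Monster type, the centraliser of a `7A`-element modulo the element is the Held group. -/

set_option autoImplicit false
set_option maxRecDepth 100000
set_option Elab.async false

namespace CfsgLib.MonHe

open Cfsg CfsgLib.Leech CfsgLib.ExtraTwo CfsgLib.LargeExtra CfsgLib.MType Subgroup
open CfsgLib.Mathieu (inM24)

variable {G : Type*} [Group G] [Finite G] {Q : Subgroup G} {z : G} {L : leechLattice → G → Prop}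
  {e : centralizer ({z} : Set G) →* Spor.Co1}

theorem s2_ok : inM24 0xbcea9094ee4488ba41b1b0cc2531e0 = true := by decide +kernel

theorem exists_short (m : MT Q z L e) {Q1 : Subgroup G} {b s : G} (p : Pair Q Q1 z s)
    (hc : Nat.card Q1 = 2 ^ 25) (hs : IsConj z s) (hb : orderOf b = 7) (hbz : b * z = z * b)
    (hbs : b * s = s * b) : ∃ t ∈ Q ⊓ Q1, b * t = t * b ∧ t ≠ 1 ∧ ¬ IsConj z t := by
  obtain ⟨γ, h⟩ := m.exists_e8 p.tQ hs p.ne
  have h7 : (244823040 : ℕ).factorization 7 = 1 := by decide +kernel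
  obtain ⟨π, h1, h2, -⟩ := (m.twist γ).exists_pi h
  obtain ⟨n, hn⟩ := IsPGroup.iff_card.mp h2
  obtain ⟨c, hc1, hc7, L', e', m', h', hβ⟩ := (m.twist γ).sylow_std h (p := 7) (by norm_num) (by norm_num) h7
    (B := zpowers b) (zpowers_le.2 (mem_cent2.2 ⟨hbz, hbs⟩)) (by
      rw [← π.ker.card_mul_index, index_ker, MonoidHom.range_eq_top.mpr h1, card_top, card_M24, hn,
        Nat.factorization_mul (by positivity) (by norm_num), Finsupp.add_apply, h7,
        Nat.prime_two.factorization_pow, Finsupp.single_eq_of_ne (by norm_num), zero_add, pow_one,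
        Nat.card_zpowers, hb])
    (orderOf_of_code (code_mkM s2_ok) (by norm_num) (by decide +kernel))
  obtain ⟨t, ht⟩ := m'.ex Spor.leechU
  have hU : permAut (mkM s2_ok) • Spor.leechU = Spor.leechU := permAut_smul_U
    (Mathieu.apply_pt_eq (code_mkM s2_ok) (i := 23) (j := 23) (by norm_num) (by decide +kernel))
    (Mathieu.apply_pt_eq (code_mkM s2_ok) (i := 0) (j := 0) (by norm_num) (by decide +kernel))
  have h3 := (m'.comm_iff_cong (by decide) (b := inc2 z s c) (congrArg Subtype.val hc7) hβ ht).2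
    (by rw [hU]; exact Cong.refl _)
  refine ⟨t, m'.mem_E_of_U p hc (γ := 1) (by simpa using h') (by simpa using ht),
    mem_cent_zpowers.1 (hc1 ▸ mem_cent_zpowers.2 h3), fun e1 => MT.not_cong_zero (w := Spor.leechU)
      (by rw [sqNorm_U]; norm_num) (by rw [sqNorm_U]; norm_num) ((m'.cong_zero ht).2 (Or.inl e1)), fun e1 => ?_⟩
  obtain ⟨g, rfl⟩ := isConj_iff.1 e1
  exact m'.not_type_two ht sqNorm_U

theorem iso_He7 (m : MT Q z L e) (hw : ∃ g : G, g * z * g⁻¹ ∈ Q ∧ g * z * g⁻¹ ≠ z)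
    {s : G} (hs : L (e8 none) s) {b : centralizer ({z} : Set G)}
    (hb : (b : G) ^ 7 = 1) (hbs : b * s = s * b)
    (hβb : (QuotientGroup.mk (permAut C7.σ) : Spor.Co1) = e b) {H : Type*} [Group H] [Finite H]
    {A : Subgroup G} (hA : A = zpowers (b : G))
    (f : centralizer (A : Set G) →* H) (hf : Function.Surjective f)
    (hker : ∀ k, f k = 1 ↔ (k : G) ∈ A) : Nonempty (H ≃* Spor.He) := by
  obtain ⟨Φ, hΦ, hΦk, hfaith⟩ := C7.exists_hom
  obtain ⟨κ, h1, h2⟩ := C7.fd.exists_kappa (r := 6) rfl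
  have hβ7 : orderOf (permAut C7.σ) = 7 := (orderOf_permAut _).trans C7.ord
  generalize permAut C7.σ = β at *
  have hβ : β ^ 7 = 1 := hβ7 ▸ pow_orderOf_eq_one β
  have hn : Odd 7 := by decide
  have hb7 : orderOf (b : G) = 7 := haveI := Fact.mk Nat.prime_seven; orderOf_eq_prime hb fun h => by
    rw [show b = 1 from Subtype.ext h, map_one] at hβb
    rcases mk_eq_one_co1.1 hβb with rfl | rfl
    · simp at hβ7
    · exact negAut_ne_one ((neg_pow_odd hn).symm.trans hβ)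
  have es := m.pre.es
  have mcz : ∀ {x}, x ∈ centralizer (A : Set G) ↔ (b : G) * x = x * b := by
    subst hA; exact mem_cent_zpowers
  have hodd : Odd (Nat.card A) := by
    rw [hA, Nat.card_zpowers]; exact hn.of_dvd_nat (orderOf_dvd_of_pow_eq_one hb)
  have hz : z ∈ centralizer (A : Set G) := mcz.mpr (mem_cent.mp b.2)
  have hsA : s ∈ centralizer (A : Set G) := mcz.mpr hbs
  have hsz := (not_congr (m.cong_zero hs)).mp not_cong_e8
  rw [not_or] at hsz
  have hq : ∀ (c : centralizer ({z} : Set G)) (g : Co0), (QuotientGroup.mk g : Spor.Co1) = e c →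
      (((g ∈ zpowers β ∨ g * negAut ∈ zpowers β)) ↔ ∃ a ∈ A, a⁻¹ * c ∈ Q) := by
    intro c g hg
    have : ∀ i : ℤ, (β ^ i = g ∨ β ^ i = g * negAut) ↔ ((b : G) ^ i)⁻¹ * c ∈ Q := fun i => by
      rw [← mk_eq_mk_co1, QuotientGroup.mk_zpow, hβb, hg, eq_comm, ← inv_mul_eq_one, ← map_zpow,
        ← map_inv, ← map_mul, m.ker]; rfl
    simp only [hA, mem_zpowers_iff, ← exists_or, this, exists_exists_eq_and]
  have hcomm : ∀ (c : centralizer ({z} : Set G)) (g : Co0), (QuotientGroup.mk g : Spor.Co1) = e c →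
      (c : G) ∈ centralizer (A : Set G) → g ∈ centralizer ({β} : Set Co0) := fun c g hg hc =>
    mem_cent.mpr (comm_of_mk_comm hn hβ (by
      rw [hg, hβb, ← map_mul, ← map_mul]
      exact congrArg e (Subtype.ext (mcz.mp hc).symm)))
  have hAA : A ≤ centralizer (A : Set G) := fun a ha =>
    mcz.mpr (mem_cent_zpowers.mp (by
      rw [hA] at ha; obtain ⟨i, rfl⟩ := ha; exact zpow_mem (mem_cent_zpowers.mpr rfl) i))
  have pre := m.pre.quot_odd hodd hz (M := centralizer (A : Set G))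
    (fun k hk => ⟨k, hk, by simp⟩) le_rfl f hf hker (fun c hc h => by
      have hcz : c ∈ centralizer ({z} : Set G) := mem_cent.mpr (h z ⟨es.mem, hz⟩).symm
      obtain ⟨g, hg⟩ := m.exists_g ⟨c, hcz⟩
      have h3 := hfaith ⟨g, hcomm _ _ hg hc⟩ fun v hv => by
        obtain ⟨x, hx⟩ := m.ex v
        exact m.cong_of_comm hx hg (h x ⟨m.mem hx,
          mcz.mpr ((m.comm_iff_cong hn hb hβb hx).mpr hv)⟩).symm
      obtain ⟨a, ha, h4⟩ := (hq _ _ hg).mp ((hΦk _).mp h3)
      rcases center_cent_odd es hodd (fun a ha => m.pre.mem_normalizer (hz a ha))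
        (x := a⁻¹ * c) ⟨h4, (centralizer _).mul_mem ((centralizer _).inv_mem (hAA ha)) hc⟩
        (fun q hq' => by
          rw [← mul_assoc, ← hq'.2 _ (inv_mem ha), mul_assoc, h q hq', mul_assoc]) with e1 | e1
      · left; rwa [← inv_mul_eq_one.mp e1]
      · right
        rw [inv_mul_eq_iff_eq_mul.mp e1, hz a ha, inv_mul_cancel_left]; exact ha)
    ⟨s, ⟨m.mem hs, hsA⟩, hsz⟩ hz
  set R := ((Q ⊓ centralizer (A : Set G)).subgroupOf (centralizer (A : Set G))).map f with hR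
  set z' := f ⟨z, hz⟩ with hz'
  have hcard : Nat.card R = 2 ^ (6 + 1) := by
    rw [hR, card_quot_odd es hodd inf_le_left inf_le_right f hker, hA, m.card_fix hn hb hβb κ h1 h2]
  have hmemR : ∀ k, f k ∈ R ↔ ∃ a ∈ A, a⁻¹ * k ∈ Q := by
    refine fun k => ⟨?_, fun ⟨a, ha, h⟩ => ⟨⟨a, hAA ha⟩⁻¹ * k,
      ⟨h, (centralizer _).mul_mem ((centralizer _).inv_mem (hAA ha)) k.2⟩, ?_⟩⟩
    · rintro ⟨q, hq, e1⟩
      rw [eq_comm, ← mul_inv_eq_one, ← map_inv, ← map_mul, hker] at e1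
      exact ⟨_, e1, by simpa using hq.1⟩
    · rw [map_mul, map_inv, (hker ⟨a, hAA ha⟩).mpr ha, inv_one, one_mul]
  have := pre.normal_subgroupOf
  let D := (centralizer ({z} : Set G)).subgroupOf (centralizer (A : Set G))
  let f' : D →* centralizer ({z'} : Set H) := (f.comp D.subtype).codRestrict _ fun d => by
    rw [mem_cent, hz', MonoidHom.comp_apply, ← map_mul, ← map_mul]
    exact congrArg f (Subtype.ext (mem_cent.mp d.2))
  have hf' : Function.Surjective f' := by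
    rintro ⟨h, hh⟩
    obtain ⟨k, rfl⟩ := hf h
    exact ⟨⟨k, mem_cent.mpr (comm_of_map_odd hodd f hker es.mul_self hz (mem_cent.mp hh))⟩, rfl⟩
  let ι : D →* centralizer ({z} : Set G) :=
    ((centralizer (A : Set G)).subtype.comp D.subtype).codRestrict _ fun d => d.2
  have hΦ2 : ∀ g g' : centralizer ({β} : Set Co0),
      (QuotientGroup.mk g.1 : Spor.Co1) = QuotientGroup.mk g'.1 → Φ g = Φ g' := by
    intro g g' h
    rw [← inv_mul_eq_one, ← map_inv, ← map_mul, hΦk]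
    rcases mk_eq_mk_co1.mp h with e1 | e1 <;> simp [e1, negAut_mul_self]
  have h3 : ∀ d : D, ∃ g : centralizer ({β} : Set Co0), (QuotientGroup.mk g.1 : Spor.Co1) = e (ι d) :=
    fun d => by
      obtain ⟨g, hg⟩ := m.exists_g (ι d)
      exact ⟨⟨g, hcomm _ _ hg d.1.2⟩, hg⟩
  choose gg hgg using h3
  let Ψ : D →* C7.T := MonoidHom.mk' (fun d => Φ (gg d)) fun c d => by
    rw [← map_mul]
    exact hΦ2 _ _ (by rw [hgg, map_mul, map_mul, ← hgg, ← hgg]; rfl)
  obtain ⟨e', -⟩ := exists_quot_equiv f' hf' (R.subgroupOf _) Ψ (fun t => by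
    obtain ⟨g, rfl⟩ := hΦ t
    obtain ⟨k, h3, h4⟩ := m.exists_h_cent hn hb hβb (mem_cent.mp g.2)
    exact ⟨⟨⟨k, mcz.mpr h4⟩, k.2⟩, hΦ2 _ _ ((hgg _).trans h3.symm)⟩)
    fun d => ((hΦk _).trans (hq _ _ (hgg d))).trans (hmemR d).symm
  have hinj : ∀ x y : centralizer (A : Set G), (x : G) * x = 1 → (y : G) ∈ Q ∨ (y : G) * y = 1 →
      f x = f y → x = y := by
    intro x y hx hy h
    have hy : (y : G) * y = 1 := hy.elim (fun hy => eq_one_of_mem_odd es hodd (Q.mul_mem hy hy)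
      ((hker (y * y)).mp (by
        rw [map_mul, ← h, ← map_mul]
        exact (congrArg f (Subtype.ext hx)).trans (map_one f)))) id
    rw [← mul_inv_eq_one, ← map_inv, ← map_mul, hker] at h
    have h4 := y.2 _ h
    refine mul_inv_eq_one.mp (Subtype.ext (eq_one_of_odd_of_mul_self hodd h ?_))
    have h5 : (y : G)⁻¹ = y := inv_eq_of_mul_eq_one_right hy
    simp only [coe_mul, coe_inv, h5] at h4 ⊢
    calc (x : G) * y * (x * y) = x * (y * (x * y)) := by group
      _ = x * x * (y * y) := by rw [← h4]; group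
      _ = 1 := by rw [hx, hy, mul_one]
  have hfz : ∀ k, f k * z' * (f k)⁻¹ = f (k * ⟨z, hz⟩ * k⁻¹) := fun k => by
    rw [hz', map_mul, map_mul, map_inv]
  have hQR : ∀ x : centralizer (A : Set G), (x : G) ∈ Q → f x ∈ R := fun x hx =>
    mem_map_of_mem f ⟨hx, x.2⟩
  refine iso_He (R := R) (z := z') (ψ := e'.toMonoidHom.comp (QuotientGroup.mk' _))
    ⟨pre, hcard, e'.surjective.comp (QuotientGroup.mk'_surjective _), fun g => by
      simp [mem_subgroupOf]⟩ (fun hi => ?_) fun g hg hne => ?_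
  · obtain ⟨g, hg⟩ := isConj_iff.mp (m.isConj_of_64 hw hs (sqNorm_e8 _))
    have p := m.pair (hg ▸ m.mem hs) (hg ▸ hsz.2)
    rw [hg] at p
    obtain ⟨y, hy, hy'⟩ := p.exists_conj_odd hodd hz hsA
    have hyA : y⁻¹ ∈ centralizer (A : Set G) :=
      inv_mem ((sup_le (c := centralizer (A : Set G)) inf_le_right inf_le_right) hy)
    have h4 : (⟨_, hyA⟩ * ⟨z, hz⟩ * ⟨_, hyA⟩⁻¹ : centralizer (A : Set G)) = ⟨s, hsA⟩ :=
      Subtype.ext (by simp [← hy', mul_assoc])
    have h5 := hi.2 (f ⟨_, hyA⟩)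
    rw [hfz, h4] at h5
    exact hsz.2 (congrArg Subtype.val (hinj ⟨z, hz⟩ ⟨s, hsA⟩ es.mul_self (Or.inl (m.mem hs))
      (h5 (pre.es.comm_z _ (hQR ⟨s, hsA⟩ (m.mem hs))).symm).symm)).symm
  · obtain ⟨k, rfl⟩ := hf g
    rw [hfz] at hg hne
    obtain ⟨q, hq1, hq2⟩ := hg
    obtain rfl := hinj _ _ (es.map_conj (k : G)).mul_self (Or.inl hq1.1) hq2.symm
    obtain ⟨t, t1, t2, t3, t4⟩ := exists_short m (m.pair (g := k) hq1.1 fun h => hne (congrArg f (Subtype.ext h)))
      (by rw [card_map_conj, m.card]) (isConj_iff.2 ⟨k, rfl⟩) hb7 (mem_cent.1 b.2) (mcz.1 hq1.2)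
    refine ⟨f ⟨t, mcz.2 t2⟩, hQR _ t1.1, ?_, fun h => t3 (eq_one_of_mem_odd es hodd t1.1 ((hker _).1 h)),
      fun h => t4 ?_⟩
    · rw [← map_inv, ← map_mul, ← map_mul]; exact hQR _ (mem_map_conj.1 t1.2)
    · obtain ⟨h, hh⟩ := isConj_iff.mp h
      obtain ⟨l, rfl⟩ := hf h
      exact isConj_iff.mpr ⟨l, congrArg Subtype.val (hinj _ _ (es.map_conj (l : G)).mul_self (Or.inl t1.1)
        ((hfz l).symm.trans hh))⟩

end CfsgLib.MonHe
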