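import Mathlib
import Cfsg.Agent.Lib.MonHe.Main
import Cfsg.Agent.Lib.MType.Lift
import Cfsg.Agent.Lib.MType.Baby
import Cfsg.Agent.Lib.Co1Rec.Inv
import Cfsg.Agent.Lib.Comp.Component
import Cfsg.Agent.Lib.He.Main

/-! The automizer of a `7A`-subgroup in a group of Monster type. -/

set_option autoImplicit false
set_option maxRecDepth 100000
set_option Elab.async false

namespace CfsgLib.MonHe

open Cfsg CfsgLib.Leech CfsgLib.ExtraTwo CfsgLib.LargeExtra CfsgLib.MType Subgroup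
open CfsgLib.Mathieu (inM24 code_mul code_injective)
open CfsgLib.Co1Rec (c0 inv3 conj_zz conj_uu tr_eq sN_eq sN_mem)

theorem sgi_eq : mkM C7.sgi_ok = C7.σ⁻¹ := Subtype.ext (code_injective (by
  obtain ⟨τ, h⟩ := Mathieu.exists_code (a := C7.sgi) (by decide +kernel)
  rw [code_mkM, coe_inv, Mathieu.code_inv_of (h := τ) (by rw [C7.code_σ, h]; decide +kernel), h]))

theorem tau_ok : inM24 0x71e0f9ca2d40eaa62d3435824b9440 = true := by decide +kernel

theorem tau_conj : mkM tau_ok * C7.σ * (mkM tau_ok)⁻¹ = C7.σ ^ 2 :=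
  mul_inv_eq_of_eq_mul (Subtype.ext (code_injective (by
    rw [pow_two, coe_mul, coe_mul, coe_mul, code_mul, code_mul, code_mul, code_mkM, C7.code_σ]
    decide +kernel)))

theorem exists_j0 : ∃ γ : Co0, (QuotientGroup.mk (γ * c0 * γ⁻¹) : Spor.Co1) * QuotientGroup.mk (permAut C7.σ)⁻¹ =
    QuotientGroup.mk (permAut C7.σ) * QuotientGroup.mk (γ * c0 * γ⁻¹) := by
  have h := (Golay.allL_iff _ _).1 C7.hs_ok (C7.hs.getD 2 (0, [])) (by decide +kernel)
  rw [Bool.and_eq_true] at h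
  have h1 := sim_matG h.1
  have h2 := sim_ext (h1.mul C7.sim') (C7.sim.mul h1) h.2
  have h3 := (h1.mul h1).ext Sim.one (by decide +kernel)
  have h4 := (tr_eq h1).trans (show _ = 0 by decide +kernel)
  generalize matG _ _ = j at h2 h3 h4
  rcases inv3 (t := j) (congrArg QuotientGroup.mk h3) (fun e => C7.not_conj 1 (by
    rw [mul_one, one_mul]
    refine permHom_injective ?_
    rcases mk_eq_one_co1.1 e with rfl | rfl
    · exact ((one_mul _).symm.trans (h2.trans (mul_one _))).symm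
    · exact mul_right_cancel (h2.symm.trans (neg_comm _).symm))) with e | e | e
  · have := (conj_zz e).1; omega
  · obtain ⟨k, hk⟩ := isConj_iff.1 e
    obtain ⟨γ, rfl⟩ := QuotientGroup.mk_surjective k
    refine ⟨γ, ?_⟩
    rw [show (QuotientGroup.mk (γ * c0 * γ⁻¹) : Spor.Co1) = j from hk, ← permAut_inv, ← sgi_eq]
    exact congrArg QuotientGroup.mk h2
  · exact absurd ((conj_uu e).symm.trans h3) negAut_ne_one

theorem c0_not_pm : c0 ∉ pm Spor.leechU := by
  rw [c0, sN_eq (by decide +kernel)]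
  rintro (h | h)
  · have := congrFun (congrArg Subtype.val h) (some 0)
    rw [sgnAut_smul_apply, if_pos (by decide +kernel)] at this
    exact absurd this (by decide)
  · have := congrFun (congrArg Subtype.val h) none
    rw [sgnAut_smul_apply, if_neg (by decide +kernel)] at this
    exact absurd this (by decide)

section
variable {G : Type*} [Group G] [Finite G]

theorem relIndex_six {b k t : G} (hb : orderOf b = 7) (hk : k * b * k⁻¹ = b ^ 2) (ht : t * b * t⁻¹ = b⁻¹) :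
    (centralizer (zpowers b : Set G)).relIndex (normalizer (zpowers b : Set G)) = 6 := by
  have hN : ∀ {g : G}, g * b * g⁻¹ ∈ zpowers b → g ∈ normalizer (zpowers b : Set G) := fun h =>
    mem_normalizer_fintype (by rintro _ ⟨i, rfl⟩; rw [← conj_zpow]; exact zpow_mem h i)
  have h1 := card_dvd_of_injective _ (QuotientGroup.kerLift_injective (zpowers b).normalizerMonoidHom)
  have h2 : ∀ (g : normalizer (zpowers b : Set G)) n, (zpowers b).normalizerMonoidHom.ker.index ∣ n →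
      b * g.1 ^ n = g.1 ^ n * b := by
    rintro g _ ⟨n, rfl⟩
    have := pow_mem (pow_index_mem (H := (zpowers b).normalizerMonoidHom.ker) g) n
    rw [normalizerMonoidHom_ker, ← pow_mul] at this
    rw [normalizerMonoidHom_ker]
    exact mem_cent_zpowers.1 this
  rw [IsCyclic.card_mulAut, Nat.card_zpowers, hb, show Nat.totient 7 = 6 by decide] at h1
  rw [relIndex, ← normalizerMonoidHom_ker]
  have h3 : ∀ n, b ^ n = 1 → 7 ∣ n := fun n h => hb ▸ orderOf_dvd_of_pow_eq_one h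
  have h4 : ¬ _ ∣ 2 := fun h => by
    have := h2 ⟨k, hN (hk ▸ npow_mem_zpowers b 2)⟩ 2 h
    refine absurd (h3 3 (mul_left_cancel (a := b) ?_)) (by norm_num)
    calc b * b ^ 3 = k * (k * b * k⁻¹) * k⁻¹ := by rw [hk, ← conj_pow, hk]; group
      _ = k ^ 2 * b * (k ^ 2)⁻¹ := by rw [pow_two]; group
      _ = _ := by rw [mul_one]; exact mul_inv_eq_of_eq_mul this.symm
  have h5 : ¬ _ ∣ 3 := fun h => by
    have := h2 ⟨t, hN (ht ▸ inv_mem (mem_zpowers b))⟩ 3 h
    have e : ∀ x, t * x⁻¹ * t⁻¹ = (t * x * t⁻¹)⁻¹ := fun x => by group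
    refine absurd (h3 2 ((pow_two b).trans (mul_eq_one_iff_inv_eq.2 ?_))) (by norm_num)
    calc b⁻¹ = t * (t * (t * b * t⁻¹) * t⁻¹) * t⁻¹ := by rw [ht, e, ht, inv_inv, ht]
      _ = t ^ 3 * b * (t ^ 3)⁻¹ := by rw [pow_three]; group
      _ = _ := mul_inv_eq_of_eq_mul this.symm
  rw [← index] at h1
  generalize (zpowers b).normalizerMonoidHom.ker.index = r at h1 h4 h5
  have := Nat.le_of_dvd (by norm_num) h1
  interval_cases r <;> simp_all

omit [Finite G] in
theorem mem_layer {N : Subgroup G} [N.Normal] (hN : N ≤ center G) (hs : IsSimpleGroup (G ⧸ N))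
    (hc : ¬ IsMulCommutative (G ⧸ N)) {n : ℕ} (hn : Odd n) (h : ∀ c ∈ N, c ^ n = 1) {x : G}
    (hx : x * x = 1) : x ∈ layer G := by
  obtain rfl : N = center G := by
    refine hN.antisymm ?_
    rcases (Normal.map (H := center G) inferInstance _ (QuotientGroup.mk'_surjective N)).eq_bot_or_eq_top with
      e | e
    · rwa [Subgroup.map_eq_bot_iff, QuotientGroup.ker_mk'] at e
    · refine absurd ⟨⟨fun a c => ?_⟩⟩ hc
      obtain ⟨a, ha, rfl⟩ := e.ge (mem_top a)
      obtain ⟨c, rfl⟩ := QuotientGroup.mk_surjective c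
      exact congrArg QuotientGroup.mk (mem_center_iff.1 ha c).symm
  obtain ⟨h1, h2⟩ := Comp.commutator_qs_of_quotient_center_simple hs hc
  obtain ⟨k, hk, c, hc, rfl⟩ := mem_sup_of_normal_right.1 (h1.ge (mem_top x))
  obtain ⟨i, rfl⟩ := hn
  have : k * c = k ^ (2 * i + 1) := by
    rw [← mul_one (k ^ _), ← h c hc, ← (show Commute k c from mem_center_iff.1 hc k).mul_pow, pow_succ, pow_mul,
      pow_two, hx, one_pow, one_mul]
  exact Comp.comp_le_layer ⟨Normal.isSubnormal inferInstance, h2⟩ (this ▸ pow_mem hk _)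

variable {Q : Subgroup G} {z : G} {L : leechLattice → G → Prop} {e : centralizer ({z} : Set G) →* Spor.Co1}

theorem exists_inv_lift (m : MT Q z L e) (hw : ∃ g : G, g * z * g⁻¹ ∈ Q ∧ g * z * g⁻¹ ≠ z) (γ : Co0) :
    ∃ j : centralizer ({z} : Set G), j * j = 1 ∧ (QuotientGroup.mk (γ * c0 * γ⁻¹) : Spor.Co1) = e j := by
  obtain ⟨s, hs⟩ := m.ex (γ • e8 none)
  have h64 : sqNorm (γ • e8 none).1 = 64 := by rw [sqNorm_smul, sqNorm_e8]
  obtain ⟨g, rfl⟩ := isConj_iff.1 (m.isConj_of_64 hw hs h64)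
  have p := m.pair (m.mem hs) fun h => MT.not_cong_zero h64.le (by omega) ((m.cong_zero hs).2 (Or.inr h))
  have hc := (card_map_conj Q g).trans m.card
  obtain ⟨h, h1, h2⟩ := m.mem_NN.1 ((m.NN_eq_signs p hc hs).ge ⟨c0, sN_mem _, rfl⟩)
  rcases p.h1.es.sq h1 with h3 | h3
  · exact ⟨h, Subtype.ext h3, h2⟩
  obtain ⟨w, hw⟩ := m.ex (γ • Spor.leechU)
  have h4 := m.mem_E_of_U p hc hs hw
  refine ⟨h * ⟨w, m.pre.le_cent h4.1⟩, Subtype.ext ?_, by
    rw [map_mul, (m.ker ⟨w, _⟩).2 h4.1, mul_one]; exact h2⟩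
  rcases p.h1.es.comm _ h4.2 _ h1 with h5 | h5
  · refine absurd (MT.pm_of_cong MType.sqNorm_U ?_) c0_not_pm
    simpa [mul_smul] using (m.cong_of_comm hw h2 h5.symm).smul γ⁻¹
  · calc (h : G) * w * (h * w) = h * (w * h) * w := by group
      _ = h * (g * z * g⁻¹) * h * (w * w) := by rw [h5]; group
      _ = 1 := by rw [p.E_sq h4, mul_one, p.h1.es.comm_z _ h1, mul_assoc _ (h : G), h3, p.h1.es.mul_self]

theorem exists_inverting (m : MT Q z L e) (hw : ∃ g : G, g * z * g⁻¹ ∈ Q ∧ g * z * g⁻¹ ≠ z)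
    {b : centralizer ({z} : Set G)} (hb : b ^ 7 = 1)
    (hβ : (QuotientGroup.mk (permAut C7.σ) : Spor.Co1) = e b) :
    ∃ t : centralizer ({z} : Set G), t * t = 1 ∧ t * b * t⁻¹ = b⁻¹ := by
  obtain ⟨γ, h1⟩ := exists_j0
  obtain ⟨j, h2, h3⟩ := exists_inv_lift m hw γ
  rw [QuotientGroup.mk_inv, h3, hβ] at h1
  have hj : j⁻¹ = j := inv_eq_of_mul_eq_one_right h2
  have h4 : e (b * j * b⁻¹ * j⁻¹) = e b ^ 2 := by
    rw [map_mul, map_mul, map_mul, map_inv, map_inv, mul_assoc (e b), h1, pow_two]; group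
  have h7 : e b ^ 7 = 1 := by rw [← map_pow, hb, map_one]
  obtain ⟨q, hq, h5⟩ := exists_conj_of_coset (N := e.ker) (p := 7) (by norm_num) (by
      obtain ⟨n, hn⟩ := IsPGroup.iff_card.mp (show IsPGroup 2 e.ker from fun x => ⟨2, Subtype.ext (Subtype.ext
        (m.pre.es.pow_four ((m.ker _).mp x.2)))⟩)
      rw [hn]; exact fun h => absurd (Nat.prime_seven.dvd_of_dvd_pow h) (by norm_num))
    (g := (b * j * b⁻¹ * j⁻¹) ^ 4) (b := b) (by
      rw [← pow_mul, mul_comm, pow_mul]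
      exact Subtype.ext (m.pre.es.pow_four ((m.ker _).1 (by
        rw [map_pow, h4, ← pow_mul, mul_comm, pow_mul, h7, one_pow])))) hb fun s hs => by
      rw [MonoidHom.mem_ker] at hs ⊢
      rw [map_mul, map_mul, hs, map_pow, h4, map_inv, ← pow_mul, mul_one, pow_succ, h7]; group
  refine ⟨q⁻¹ * j * q, by rw [mul_assoc, ← mul_assoc q, mul_inv_cancel_left, mul_assoc, ← mul_assoc j, h2]; simp, ?_⟩
  have h6 : j * (b * j * b⁻¹ * j⁻¹) ^ 4 * j⁻¹ = ((b * j * b⁻¹ * j⁻¹) ^ 4)⁻¹ := by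
    rw [← conj_pow, ← inv_pow, hj]
    congr 1
    calc _ = j * b * j * b⁻¹ * (j * j) := by group
      _ = _ := by rw [h2]; simp [hj, mul_assoc]
  calc _ = q⁻¹ * (j * (q * b * q⁻¹) * j⁻¹) * q := by group
    _ = _ := by rw [← h5, mul_inv_cancel_right, h6, eq_mul_inv_of_mul_eq h5]; group

theorem automizer (m : MT Q z L e) (hw : ∃ g : G, g * z * g⁻¹ ∈ Q ∧ g * z * g⁻¹ ≠ z) {s : G} (hs : L (e8 none) s)
    {b : centralizer ({z, s} : Set G)} (hb : b ^ 7 = 1)
    (hβ : (QuotientGroup.mk (permAut C7.σ) : Spor.Co1) = e (inc2 z s b)) {B : Subgroup G} (hB : B = zpowers (b : G)) :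
    (centralizer (B : Set G)).relIndex (normalizer (B : Set G)) = 6 ∧ ∃ t : G, orderOf t = 2 ∧
      (∀ b ∈ B, t * b * t⁻¹ = b⁻¹) ∧ (∀ x ∈ (layer (centralizer (B : Set G))).map (centralizer (B : Set G)).subtype,
        t * x * t⁻¹ ∈ (layer (centralizer (B : Set G))).map (centralizer (B : Set G)).subtype) ∧
      ¬ ∃ l ∈ (layer (centralizer (B : Set G))).map (centralizer (B : Set G)).subtype,
        ∀ x ∈ (layer (centralizer (B : Set G))).map (centralizer (B : Set G)).subtype, t * x * t⁻¹ = l * x * l⁻¹ := by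
  subst hB
  obtain ⟨π, h1, h2, h3, -⟩ := m.exists_pi' hs hβ
  obtain ⟨k, -, hk⟩ := lift_conj h1 h2 Nat.prime_seven (by norm_num) hb (τ := mkM tau_ok) (i := 2) (h3 ▸ tau_conj)
  obtain ⟨t, t1, t2⟩ := exists_inverting m hw (b := inc2 z s b) (by rw [← map_pow, hb, map_one]) hβ
  replace t1 : (t : G) * t = 1 := congrArg Subtype.val t1
  replace t2 : (t : G) * b * (t : G)⁻¹ = (b : G)⁻¹ := congrArg Subtype.val t2
  generalize (t : G) = t at t1 t2
  have hn : ∀ c : centralizer ({z, s} : Set G), (c : G) * b * (c : G)⁻¹ ≠ (b : G)⁻¹ := fun c h => C7.not_conj (π c) (by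
    rw [sgi_eq, ← h3, ← map_inv, ← map_mul, ← map_mul]
    exact congrArg π (Subtype.ext (mul_inv_eq_iff_eq_mul.1 h)))
  have hb' : (b : G) ^ 7 = 1 := congrArg Subtype.val hb
  have hb7 : orderOf (b : G) = 7 := haveI := Fact.mk Nat.prime_seven; orderOf_eq_prime hb' fun h => hn 1 (by simp [h])
  have t3 : ∀ c ∈ zpowers (b : G), t * c * t⁻¹ = c⁻¹ := by
    rintro _ ⟨i, rfl⟩; rw [← conj_zpow, t2, inv_zpow]
  have hN : (zpowers (b : G)).subgroupOf (centralizer (zpowers (b : G) : Set G)) ≤ center _ := fun c hc =>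
    mem_center_iff.2 fun d => Subtype.ext (d.2 _ hc).symm
  have : ((zpowers (b : G)).subgroupOf (centralizer (zpowers (b : G) : Set G))).Normal :=
    ⟨fun c hc d => by rwa [mem_center_iff.1 (hN hc) d, mul_inv_cancel_right]⟩
  obtain ⟨f⟩ := iso_He7 m hw hs (b := inc2 z s b) hb' (mem_cent2.mp b.2).2 hβ (A := zpowers (b : G)) rfl
    (QuotientGroup.mk' _) (QuotientGroup.mk'_surjective _) fun k => (QuotientGroup.eq_one_iff k).trans mem_subgroupOf
  have := He.simple
  have hl : ∀ x, (b : G) * x = x * b → x * x = 1 → x ∈ (layer _).map (centralizer (zpowers (b : G) : Set G)).subtype :=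
    fun x h h' => ⟨⟨x, mem_cent_zpowers.2 h⟩, mem_layer hN f.isSimpleGroup (fun hc => by
      have := f.isSimpleGroup
      have := (Group.is_simple_iff_prime_card (α := _ ⧸ (zpowers (b : G)).subgroupOf
        (centralizer (zpowers (b : G) : Set G)))).1 this
      rw [Nat.card_congr f.toEquiv, He.card_eq] at this
      exact absurd this (by norm_num)) (n := 7) (by decide) (fun c hc => Subtype.ext (by
        obtain ⟨i, hi⟩ := mem_subgroupOf.1 hc
        rw [coe_pow, ← hi, ← zpow_natCast, ← zpow_mul, mul_comm, zpow_mul, zpow_natCast, hb', one_zpow]; rfl))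
      (Subtype.ext h'), rfl⟩
  refine ⟨relIndex_six hb7 (congrArg Subtype.val hk) t2, t, orderOf_eq_two (fun h => hn 1 (by simpa [h] using t2))
    t1, t3, ?_, fun ⟨l, hl1, h⟩ => ?_⟩
  · rintro _ ⟨x, hx, rfl⟩
    have t4 := inv_eq_of_mul_eq_one_right t1
    have ht : t ∈ normalizer (centralizer (zpowers (b : G) : Set G) : Set G) :=
      mem_normalizer_fintype fun c hc => mem_cent_zpowers.2 (by
        calc _ = t * (t⁻¹ * b * t * c) * t⁻¹ := by group
          _ = t * (c * (t⁻¹ * b * t)) * t⁻¹ := by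
            rw [← t4, inv_inv, t2, hc _ (inv_mem (mem_zpowers _))]
          _ = _ := by group)
    exact ⟨(centralizer (zpowers (b : G) : Set G)).normalizerMonoidHom ⟨t, ht⟩ x,
      (Comp.layer_characteristic.fixed _).ge hx, rfl⟩
  · have h4 : ∀ x, (b : G) * x = x * b → x * x = 1 → l⁻¹ * t * x = x * (l⁻¹ * t) := fun x h5 h6 => by
      calc _ = l⁻¹ * (t * x * t⁻¹) * t := by group
        _ = _ := by rw [h x (hl x h5 h6)]; group
    refine hn ⟨l⁻¹ * t, mem_cent2.2 ⟨h4 z (mem_cent2.1 b.2).1 m.pre.es.mul_self, h4 s (mem_cent2.1 b.2).2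
      ((m.sq hs).2 (by rw [sqNorm_e8]; rfl))⟩⟩ ?_
    have h5 := mem_cent_zpowers.1 (map_subtype_le _ hl1)
    calc _ = l⁻¹ * (t * b * t⁻¹) * l := by simp [mul_assoc]
      _ = _ := by rw [t2, ← mul_inv_rev, h5]; group

end

end CfsgLib.MonHe
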